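import Cfsg.Agent.H539.Lim.Defs

/-!
# Offenders: conjugation, monotonicity, inheritance (S5242, piece D3)
-/

set_option autoImplicit false

namespace Cfsg.Agent.H291.Lim

open MulAction Cfsg.Agent.H539.Lim

universe u v w

/-- best offender with a kernel `Y` -/
def BOY {G : Type*} [Group G] (Y : Subgroup G) (D : Type*) [AddCommGroup D] [DistribMulAction G D]
    (A : Subgroup G) : Prop :=
  Y ≤ A ∧ (∀ a ∈ A, ∀ b ∈ A, a * b * a⁻¹ * b⁻¹ ∈ Y) ∧ ∀ B : Subgroup G, Y ≤ B → B ≤ A →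
    Nat.card B * Nat.card (DFix B D) ≤ Nat.card A * Nat.card (DFix A D)

def JDY {G : Type*} [Group G] (Y : Subgroup G) (D : Type*) [AddCommGroup D] [DistribMulAction G D]
    (P : Subgroup G) : Subgroup G := sSup {A : Subgroup G | A ≤ P ∧ BOY Y D A}

section

variable {G : Type u} [Group G]

theorem cj_mul (g h : G) (P : Subgroup G) : cj g (cj h P) = cj (g * h) P := by
  unfold cj
  rw [Subgroup.map_map]
  congr 1
  ext x
  simp

theorem cj_one (P : Subgroup G) : cj 1 P = P := by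
  unfold cj
  ext x
  simp

theorem cj_mono (g : G) {P Q : Subgroup G} (h : P ≤ Q) : cj g P ≤ cj g Q := Subgroup.map_mono h

theorem cj_inv_cj (g : G) (P : Subgroup G) : cj g⁻¹ (cj g P) = P := by rw [cj_mul, inv_mul_cancel, cj_one]

theorem cj_cj_inv (g : G) (P : Subgroup G) : cj g (cj g⁻¹ P) = P := by rw [cj_mul, mul_inv_cancel, cj_one]

theorem mem_cj {g : G} {P : Subgroup G} {x : G} : x ∈ cj g P ↔ g⁻¹ * x * g ∈ P := by
  unfold cj
  rw [Subgroup.mem_map]
  constructor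
  · rintro ⟨y, hy, rfl⟩
    simpa [mul_assoc] using hy
  · intro h
    exact ⟨_, h, by simp [mul_assoc]⟩

theorem card_cj (g : G) (P : Subgroup G) : Nat.card (cj g P) = Nat.card P :=
  Nat.card_congr (P.equivMapOfInjective _ (MulAut.conj g).injective).toEquiv.symm

theorem cj_ne_bot {g : G} {P : Subgroup G} (h : P ≠ ⊥) : cj g P ≠ ⊥ := by
  intro h1
  apply h
  rw [← cj_inv_cj g P, h1]
  exact Subgroup.map_bot _

variable {D : Type w} [AddCommGroup D] [DistribMulAction G D]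

theorem card_DFix_cj (g : G) (P : Subgroup G) : Nat.card (DFix (cj g P) D) = Nat.card (DFix P D) := by
  refine Nat.card_congr
    { toFun := fun d => ⟨g⁻¹ • d.1, fun u hu => ?_⟩
      invFun := fun d => ⟨g • d.1, fun u hu => ?_⟩
      left_inv := fun d => Subtype.ext (smul_inv_smul g d.1)
      right_inv := fun d => Subtype.ext (inv_smul_smul g d.1) }
  · have h1 : g * u * g⁻¹ ∈ cj g P := by rw [mem_cj]; simpa [mul_assoc] using hu
    calc u • g⁻¹ • d.1 = g⁻¹ • ((g * u * g⁻¹) • d.1) := by rw [smul_smul, smul_smul]; congr 1; group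
      _ = g⁻¹ • d.1 := by rw [d.2 _ h1]
  · rw [mem_cj] at hu
    calc u • g • d.1 = g • ((g⁻¹ * u * g) • d.1) := by rw [smul_smul, smul_smul]; congr 1; group
      _ = g • d.1 := by rw [d.2 _ hu]

theorem bo_cj {A : Subgroup G} (g : G) (h : BO D A) : BO D (cj g A) := by
  refine ⟨fun a ha b hb => ?_, fun B hB => ?_⟩
  · rw [mem_cj] at ha hb
    have := h.1 _ ha _ hb
    have h2 : g * ((g⁻¹ * a * g) * (g⁻¹ * b * g)) * g⁻¹ = g * ((g⁻¹ * b * g) * (g⁻¹ * a * g)) * g⁻¹ := by rw [this]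
    simpa [mul_assoc] using h2
  · have h1 : Cfsg.Agent.H539.Lim.cj g⁻¹ B ≤ A := by
      have := cj_mono g⁻¹ hB
      rwa [cj_inv_cj] at this
    have h2 := h.2 _ h1
    rwa [card_cj, card_DFix_cj, ← card_cj g A, ← card_DFix_cj (D := D) g A] at h2

theorem JD_le (P : Subgroup G) : JD D P ≤ P := sSup_le fun _ h => h.1

theorem le_JD {A P : Subgroup G} (h : BO D A) (hA : A ≤ P) : A ≤ JD D P := le_sSup ⟨hA, h⟩

theorem JD_mono {P Q : Subgroup G} (h : P ≤ Q) : JD D P ≤ JD D Q :=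
  sSup_le fun _ hA => le_JD hA.2 (hA.1.trans h)

theorem JD_JD (P : Subgroup G) : JD D (JD D P) = JD D P :=
  le_antisymm (JD_le _) (sSup_le fun _ hA => le_JD hA.2 (le_JD hA.2 hA.1))

theorem cj_JD_le (g : G) (P : Subgroup G) : cj g (JD D P) ≤ JD D (cj g P) := by
  have h : JD D P ≤ cj g⁻¹ (JD D (cj g P)) := by
    refine sSup_le fun A hA => ?_
    have h1 := cj_mono g⁻¹ (le_JD (bo_cj g hA.2) (cj_mono g hA.1))
    rwa [cj_inv_cj] at h1
  have h2 := cj_mono g h
  rwa [cj_cj_inv] at h2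

theorem JD_cj (g : G) (P : Subgroup G) : JD D (cj g P) = cj g (JD D P) := by
  refine le_antisymm ?_ (cj_JD_le g P)
  have h := cj_mono g (cj_JD_le (D := D) g⁻¹ (cj g P))
  rwa [cj_cj_inv, cj_inv_cj] at h

theorem JD_ne_bot_iff {P : Subgroup G} : JD D P ≠ ⊥ ↔ ∃ A : Subgroup G, A ≤ P ∧ A ≠ ⊥ ∧ BO D A := by
  constructor
  · intro h
    by_contra h1
    push Not at h1
    apply h
    rw [eq_bot_iff]
    refine sSup_le fun A hA => ?_
    by_contra h2
    exact h1 A hA.1 (fun h3 => h2 (h3 ▸ le_rfl)) hA.2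
  · rintro ⟨A, hA, h1, h2⟩ h3
    exact h1 (eq_bot_iff.2 (h3 ▸ le_JD h2 hA))

/-! ### inheritance -/

theorem card_sub_mul {E : Type*} [AddCommGroup E] [Finite E] {H K L : AddSubgroup E} (hH : H ≤ L) (hK : K ≤ L) :
    Nat.card H * Nat.card K ≤ Nat.card L * Nat.card ↥(H ⊓ K) := by
  have h1 : Nat.card H = Nat.card ↥(H ⊓ K) * K.relIndex H := by
    rw [← AddSubgroup.relIndex_bot_left, ← AddSubgroup.relIndex_bot_left,
      ← AddSubgroup.inf_relIndex_left H K, AddSubgroup.relIndex_mul_relIndex _ _ _ bot_le inf_le_left]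
  have h2 : Nat.card L = Nat.card K * K.relIndex L := by
    rw [← AddSubgroup.relIndex_bot_left, ← AddSubgroup.relIndex_bot_left,
      AddSubgroup.relIndex_mul_relIndex _ _ _ bot_le hK]
  have h3 : K.relIndex H ≤ K.relIndex L :=
    AddSubgroup.relIndex_le_of_le_right hH (AddSubgroup.index_ne_zero_of_finite (H := K.addSubgroupOf L))
  calc Nat.card H * Nat.card K = Nat.card ↥(H ⊓ K) * K.relIndex H * Nat.card K := by rw [h1]
    _ ≤ Nat.card ↥(H ⊓ K) * K.relIndex L * Nat.card K := by gcongr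
    _ = Nat.card L * Nat.card ↥(H ⊓ K) := by rw [h2]; ring

theorem DFix_anti {P Q : Subgroup G} (h : P ≤ Q) : DFix Q D ≤ DFix P D := fun _ hd u hu => hd u (h hu)

/-- inheritance of best offenders by submodules -/
theorem bo_inherit [Finite D] {A : Subgroup G} (hA : BO D A) (U : AddSubgroup D) {B : Subgroup G} (hB : B ≤ A) :
    Nat.card B * Nat.card ↥(U ⊓ DFix B D) ≤ Nat.card A * Nat.card ↥(U ⊓ DFix A D) := by
  have h1 := card_sub_mul (H := U ⊓ DFix B D) (K := DFix A D) (L := DFix B D) inf_le_right (DFix_anti hB)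
  have h2 : U ⊓ DFix B D ⊓ DFix A D = U ⊓ DFix A D := by
    rw [inf_assoc, inf_eq_right.2 (DFix_anti (D := D) hB)]
  rw [h2] at h1
  have h3 := hA.2 B hB
  have h4 : 0 < Nat.card (DFix A D) := Nat.card_pos
  refine Nat.le_of_mul_le_mul_right (c := Nat.card (DFix A D)) ?_ h4
  calc Nat.card B * Nat.card ↥(U ⊓ DFix B D) * Nat.card (DFix A D)
      = Nat.card B * (Nat.card ↥(U ⊓ DFix B D) * Nat.card (DFix A D)) := by ring
    _ ≤ Nat.card B * (Nat.card (DFix B D) * Nat.card ↥(U ⊓ DFix A D)) := by gcongr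
    _ = (Nat.card B * Nat.card (DFix B D)) * Nat.card ↥(U ⊓ DFix A D) := by ring
    _ ≤ (Nat.card A * Nat.card (DFix A D)) * Nat.card ↥(U ⊓ DFix A D) := by gcongr
    _ = Nat.card A * Nat.card ↥(U ⊓ DFix A D) * Nat.card (DFix A D) := by ring

theorem card_sup_mul_inf [Finite G] (H Y : Subgroup G) [Y.Normal] :
    Nat.card ↥(H ⊔ Y) * Nat.card ↥(H ⊓ Y) = Nat.card H * Nat.card Y := by
  have h1 : Nat.card H = Nat.card ↥(H ⊓ Y) * Y.relIndex H := by
    rw [← Subgroup.relIndex_bot_left, ← Subgroup.relIndex_bot_left,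
      ← Subgroup.inf_relIndex_left H Y, Subgroup.relIndex_mul_relIndex _ _ _ bot_le inf_le_left]
  have h2 : Nat.card ↥(H ⊔ Y) = Nat.card Y * Y.relIndex H := by
    rw [← Subgroup.relIndex_sup_right (K := Y) (H := H), ← Subgroup.relIndex_bot_left, ← Subgroup.relIndex_bot_left,
      Subgroup.relIndex_mul_relIndex _ _ _ bot_le le_sup_right]
  rw [h2, h1]; ring

/-- a best offender gives a best offender modulo `Y` on the fixed points of `Y` -/
theorem bo_boy [Finite G] [Finite D] {A : Subgroup G} (hA : BO D A) (Y : Subgroup G) [hY : Y.Normal] :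
    BOY Y (DFix Y D) (A ⊔ Y) := by
  refine ⟨le_sup_right, ?_, fun B hYB hB => ?_⟩
  · intro a ha b hb
    obtain ⟨a₁, ha₁, y₁, hy₁, rfl⟩ := Subgroup.mem_sup_of_normal_right.1 ha
    obtain ⟨b₁, hb₁, y₂, hy₂, rfl⟩ := Subgroup.mem_sup_of_normal_right.1 hb
    rw [← QuotientGroup.eq_one_iff]
    have e1 : ((y₁ : G) : G ⧸ Y) = 1 := (QuotientGroup.eq_one_iff _).2 hy₁
    have e2 : ((y₂ : G) : G ⧸ Y) = 1 := (QuotientGroup.eq_one_iff _).2 hy₂
    have e3 : ((a₁ : G) : G ⧸ Y) * (b₁ : G) = (b₁ : G) * (a₁ : G) := by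
      rw [← QuotientGroup.mk_mul, ← QuotientGroup.mk_mul, hA.1 a₁ ha₁ b₁ hb₁]
    simp only [QuotientGroup.mk_mul, QuotientGroup.mk_inv, e1, e2, mul_one]
    rw [e3]; group
  · -- `B = (A ⊓ B) ⊔ Y`
    have hBe : B = (A ⊓ B) ⊔ Y := by
      refine le_antisymm (fun b hb => ?_) (sup_le inf_le_right hYB)
      obtain ⟨a, ha, y, hy, rfl⟩ := Subgroup.mem_sup_of_normal_right.1 (hB hb)
      refine Subgroup.mem_sup_of_normal_right.2 ⟨a, ⟨ha, ?_⟩, y, hy, rfl⟩
      have := B.mul_mem hb (B.inv_mem (hYB hy))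
      simpa using this
    have hcard : ∀ C : Subgroup G, Nat.card (DFix (C ⊔ Y) ↥(DFix Y D)) = Nat.card ↥(DFix Y D ⊓ DFix C D) := by
      intro C
      refine Nat.card_congr
        { toFun := fun d => ⟨d.1.1, d.1.2, fun u hu => ?_⟩
          invFun := fun d => ⟨⟨d.1, d.2.1⟩, fun u hu => ?_⟩
          left_inv := fun d => rfl
          right_inv := fun d => rfl }
      · exact congrArg Subtype.val (d.2 u (Subgroup.mem_sup_left hu))
      · obtain ⟨c, hc, y, hy, rfl⟩ := Subgroup.mem_sup_of_normal_right.1 hu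
        apply Subtype.ext
        show (c * y) • d.1 = d.1
        rw [mul_smul, d.2.1 y hy, d.2.2 c hc]
    have e1 := card_sup_mul_inf (A ⊓ B) Y
    have e2 := card_sup_mul_inf A Y
    have e3 : A ⊓ B ⊓ Y = A ⊓ Y := by rw [inf_assoc, inf_eq_right.2 hYB]
    rw [e3, ← hBe] at e1
    have h3 := bo_inherit hA (DFix Y D) (B := A ⊓ B) inf_le_left
    have h4 : Nat.card (DFix B ↥(DFix Y D)) = Nat.card ↥(DFix Y D ⊓ DFix (A ⊓ B) D) := by
      conv_lhs => rw [hBe]
      exact hcard _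
    rw [h4, hcard A]
    have h5 : 0 < Nat.card ↥(A ⊓ Y) := Nat.card_pos
    refine Nat.le_of_mul_le_mul_right (c := Nat.card ↥(A ⊓ Y)) ?_ h5
    calc Nat.card B * Nat.card ↥(DFix Y D ⊓ DFix (A ⊓ B) D) * Nat.card ↥(A ⊓ Y)
        = (Nat.card B * Nat.card ↥(A ⊓ Y)) * Nat.card ↥(DFix Y D ⊓ DFix (A ⊓ B) D) := by ring
      _ = Nat.card Y * (Nat.card ↥(A ⊓ B) * Nat.card ↥(DFix Y D ⊓ DFix (A ⊓ B) D)) := by rw [e1]; ring
      _ ≤ Nat.card Y * (Nat.card A * Nat.card ↥(DFix Y D ⊓ DFix A D)) := by gcongr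
      _ = (Nat.card A * Nat.card Y) * Nat.card ↥(DFix Y D ⊓ DFix A D) := by ring
      _ = Nat.card ↥(A ⊔ Y) * Nat.card ↥(DFix Y D ⊓ DFix A D) * Nat.card ↥(A ⊓ Y) := by rw [← e2]; ring

/-- restriction of a best offender to a subgroup `N` -/
theorem bo_subgroupOf {A : Subgroup G} (hA : BO D A) {N : Subgroup G} (hAN : A ≤ N) : BO D (A.subgroupOf N) := by
  have hfix : ∀ B : Subgroup N, Nat.card (DFix B D) = Nat.card (DFix (B.map N.subtype) D) := by
    intro B
    refine Nat.card_congr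
      { toFun := fun d => ⟨d.1, ?_⟩
        invFun := fun d => ⟨d.1, ?_⟩
        left_inv := fun d => rfl
        right_inv := fun d => rfl }
    · rintro u ⟨b, hb, rfl⟩
      exact d.2 b hb
    · intro u hu
      exact d.2 (u : G) (Subgroup.mem_map_of_mem N.subtype hu)
  have hcard : ∀ B : Subgroup N, Nat.card B = Nat.card (B.map N.subtype) := fun B =>
    Nat.card_congr (B.equivMapOfInjective _ N.subtype_injective).toEquiv
  have hmap : (A.subgroupOf N).map N.subtype = A := by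
    rw [Subgroup.subgroupOf_map_subtype, inf_eq_left.2 hAN]
  refine ⟨fun a ha b hb => Subtype.ext (hA.1 a ha b hb), fun B hB => ?_⟩
  have h1 : B.map N.subtype ≤ A := by
    have := Subgroup.map_mono (f := N.subtype) hB
    rwa [hmap] at this
  have h2 := hA.2 _ h1
  rw [hcard B, hfix B, hcard (A.subgroupOf N), hfix (A.subgroupOf N), hmap]
  exact h2

end

end Cfsg.Agent.H291.Lim
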