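import Cfsg.Agent.H291.Lim.Off
import Cfsg.Agent.H223.Lim.Basic
import Cfsg.Agent.H842.Lim.Basic
import Cfsg.Agent.H539.Lim.Filt
import Cfsg.Agent.H95.Lim.Local
import Cfsg.Agent.H296.Lim.GoodBO
import Cfsg.Agent.H539.Lim.AOne
import Cfsg.Agent.H539.Lim.ClaimT
import Cfsg.Agent.H309.Lim.Norm

/-!
# The local theorem (S5242, piece D3)

`star`, `starY`: for a lower set `R` of subgroups with `J_D(P) ∈ R → P ∈ R` the cohomology `H^n(R; D)` vanishes for
`n ≥ 2`.
-/

set_option autoImplicit false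

namespace Cfsg.Agent.H291.Lim

open MulAction Cfsg.Agent.H539.Lim
open Cfsg.Agent.H223.Lim (van_two1 van_two2)
open Cfsg.Agent.H842.Lim (van_all)
open Cfsg.Agent.H95.Lim (van_of_local pset_fixPt)
open Cfsg.Agent.H296.Lim (exists_good_of_BO)
open Cfsg.Agent.H309.Lim (van_R0)

universe u v w

/-! ### elementary -/

section

variable {G : Type u} [Group G] {Ω : Type v} [MulAction G Ω] {D : Type w} [AddCommGroup D]
  [DistribMulAction G D]

theorem van_congr {V V' : Set (Subgroup G)} (h : ∀ (k : ℕ) (x : Fin (k + 1) → Ω), st G x ∈ V ↔ st G x ∈ V') {n : ℕ}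
    (hv : Van G Ω D V' n) : Van G Ω D V n :=
  van_of_surj (MonoidHom.id G) Function.surjective_id (fun _ _ => rfl) (fun _ _ => rfl) h hv

theorem st_pgroup {p : ℕ} (hΩ : PSet p G Ω) {k : ℕ} (x : Fin (k + 1) → Ω) : IsPGroup p (st G x) := by
  refine (hΩ.pgroup (x 0)).to_le fun g hg => ?_
  rw [mem_stabilizer_iff] at hg ⊢
  exact congrFun hg 0

theorem le_st {Y : Subgroup G} (hY : ∀ x : Ω, Y ≤ stabilizer G x) {k : ℕ} (x : Fin k → Ω) : Y ≤ st G x := by
  intro g hg
  rw [mem_stabilizer_iff]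
  funext j
  exact hY (x j) hg

end

/-- the local theorem for given data -/
def StarFor (p : ℕ) (G : Type u) [Group G] (Ω : Type v) [MulAction G Ω] (D : Type w) [AddCommGroup D]
    [DistribMulAction G D] : Prop :=
  PSet p G Ω → IsPTors p D → ∀ R : Set (Subgroup G), IsInv R → ⊥ ∈ R → IsLowerSet R →
    (∀ P : Subgroup G, IsPGroup p P → JD D P ∈ R → P ∈ R) → ∀ n : ℕ, Van G Ω D R (n + 2)

/-- induction hypothesis -/
def StarLt (p : ℕ) (m : ℕ) : Prop :=
  ∀ (G : Type u) [Group G] [Finite G] (Ω : Type v) [MulAction G Ω] [Finite Ω] (D : Type w) [AddCommGroup D]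
    [Finite D] [DistribMulAction G D], Nat.card G < m → StarFor p G Ω D

section

variable {G : Type u} [Group G] {Ω : Type v} [MulAction G Ω] {D : Type w} [AddCommGroup D]
  [DistribMulAction G D]

theorem map_cj {H : Type*} [Group H] (φ : G →* H) (g : G) (P : Subgroup G) : (cj g P).map φ = cj (φ g) (P.map φ) := by
  unfold cj
  rw [Subgroup.map_map, Subgroup.map_map]
  congr 1
  ext x
  simp

theorem comap_cj {H : Type*} [Group H] (φ : G →* H) (g : G) (P : Subgroup H) :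
    (cj (φ g) P).comap φ = cj g (P.comap φ) := by
  ext x
  rw [Subgroup.mem_comap, mem_cj, mem_cj, Subgroup.mem_comap]
  simp

theorem starY_of {p : ℕ} [Fact p.Prime] [Finite G] [Finite Ω] [Finite D] (hΩ : PSet p G Ω)
    (hD : IsPTors p D) (Y : Subgroup G) [Y.Normal] (hY : ∀ x : Ω, Y ≤ stabilizer G x)
    (hYD : ∀ u ∈ Y, ∀ d : D, u • d = d)
    (hS : ∀ (_ : MulAction (G ⧸ Y) Ω) (_ : DistribMulAction (G ⧸ Y) D), StarFor p (G ⧸ Y) Ω D)
    (R : Set (Subgroup G)) (hRi : IsInv R) (hYR : Y ∈ R)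
    (hlow : ∀ P ∈ R, ∀ Q : Subgroup G, Y ≤ Q → Q ≤ P → Q ∈ R)
    (hJ : ∀ P : Subgroup G, IsPGroup p P → Y ≤ P → JDY Y D P ∈ R → P ∈ R) (n : ℕ) :
    Van G Ω D R (n + 2) := by
  classical
  let fΩ : G ⧸ Y →* Equiv.Perm Ω := QuotientGroup.lift Y (MulAction.toPermHom G Ω) (by
    intro u hu
    ext x
    exact mem_stabilizer_iff.1 (hY x hu))
  let fD : G ⧸ Y →* AddMonoid.End D := QuotientGroup.lift Y (DistribMulAction.toAddMonoidEnd G D) (by
    intro u hu
    ext d
    exact hYD u hu d)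
  let iΩ : MulAction (G ⧸ Y) Ω := MulAction.compHom Ω fΩ
  let iD : DistribMulAction (G ⧸ Y) D := DistribMulAction.compHom D fD
  let φ : G →* G ⧸ Y := QuotientGroup.mk' Y
  have hφ : Function.Surjective φ := QuotientGroup.mk'_surjective Y
  have hΩφ : ∀ (g : G) (x : Ω), g • x = φ g • x := fun _ _ => rfl
  have hDφ : ∀ (g : G) (d : D), g • d = φ g • d := fun _ _ => rfl
  have hker : φ.ker = Y := QuotientGroup.ker_mk' Y
  have hst : ∀ {k : ℕ} (x : Fin k → Ω), (st (G ⧸ Y) x).comap φ = st G x := by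
    intro k x
    ext g
    rw [Subgroup.mem_comap, mem_stabilizer_iff, mem_stabilizer_iff]
    constructor
    · intro h; funext j; exact (hΩφ g (x j)).trans (congrFun h j)
    · intro h; funext j; exact (hΩφ g (x j)).symm.trans (congrFun h j)
  obtain ⟨x₀, -⟩ := hΩ.exists_fix ⊥ IsPGroup.of_bot
  have hYp : IsPGroup p Y := (hΩ.pgroup x₀).to_le (hY x₀)
  have hcomap_p : ∀ P' : Subgroup (G ⧸ Y), IsPGroup p P' → IsPGroup p (P'.comap φ) := fun P' h =>
    h.comap_of_ker_isPGroup φ (by rw [hker]; exact hYp)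
  have hYc : ∀ P' : Subgroup (G ⧸ Y), Y ≤ P'.comap φ := by
    intro P' u hu
    rw [Subgroup.mem_comap, show φ u = 1 from (QuotientGroup.eq_one_iff u).2 hu]
    exact P'.one_mem
  have hΩ' : PSet p (G ⧸ Y) Ω := by
    refine ⟨fun x g => ?_, fun P' hP' => ?_⟩
    · obtain ⟨g, hg⟩ := g
      obtain ⟨g, rfl⟩ := hφ g
      have h1 : g ∈ stabilizer G x := by
        rw [mem_stabilizer_iff] at hg ⊢
        exact (hΩφ g x).trans hg
      obtain ⟨k, hk⟩ := hΩ.pgroup x ⟨g, h1⟩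
      refine ⟨k, Subtype.ext ?_⟩
      have : g ^ p ^ k = 1 := congrArg Subtype.val hk
      show φ g ^ p ^ k = 1
      rw [← map_pow, this, map_one]
    · obtain ⟨x, hx⟩ := hΩ.exists_fix _ (hcomap_p P' hP')
      refine ⟨x, fun g hg => ?_⟩
      obtain ⟨g, rfl⟩ := hφ g
      have := hx (show g ∈ P'.comap φ from hg)
      rw [mem_stabilizer_iff] at this ⊢
      exact (hΩφ g x).symm.trans this
  let R' : Set (Subgroup (G ⧸ Y)) := {P' | P'.comap φ ∈ R}
  refine van_of_surj φ hφ hΩφ hDφ (V' := R') (fun k x => ?_) (hS iΩ iD hΩ' hD R' ?_ ?_ ?_ ?_ n)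
  · show st G x ∈ R ↔ (st (G ⧸ Y) x).comap φ ∈ R
    rw [hst]
  · intro g P' hP'
    obtain ⟨g, rfl⟩ := hφ g
    show (cj (φ g) P').comap φ ∈ R
    rw [comap_cj]
    exact hRi g _ hP'
  · show (⊥ : Subgroup (G ⧸ Y)).comap φ ∈ R
    rw [MonoidHom.comap_bot]
    rwa [hker]
  · intro P' Q' hQP hP'
    exact hlow _ hP' _ (hYc Q') (Subgroup.comap_mono hQP)
  · intro P' hP'p hP'
    refine hJ _ (hcomap_p P' hP'p) (hYc P') (hlow _ hP' _ ?_ ?_)
    · exact le_sSup ⟨hYc P', le_rfl, fun a ha b hb => Y.mul_mem (Y.mul_mem (Y.mul_mem ha hb) (Y.inv_mem ha)) (Y.inv_mem hb),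
        fun B h1 h2 => by rw [le_antisymm h2 h1]⟩
    · refine sSup_le fun A hA => ?_
      obtain ⟨hAP, hYA, hAc, hAB⟩ := hA
      rw [← Subgroup.map_le_iff_le_comap]
      refine le_JD ⟨?_, fun B' hB' => ?_⟩ (Subgroup.map_le_iff_le_comap.2 hAP)
      · rintro _ ⟨a, ha, rfl⟩ _ ⟨b, hb, rfl⟩
        have h1 : φ (a * b * a⁻¹ * b⁻¹) = 1 := (QuotientGroup.eq_one_iff _).2 (hAc a ha b hb)
        rw [map_mul, map_mul, map_mul, map_inv, map_inv, mul_inv_eq_one, mul_inv_eq_iff_eq_mul] at h1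
        exact h1
      · have e1 : ∀ C' : Subgroup (G ⧸ Y), Nat.card (C'.comap φ) = Nat.card C' * Nat.card Y := by
          intro C'
          have h1 := (C'.comap φ).card_mul_index
          rw [Subgroup.index_comap_of_surjective C' hφ] at h1
          have h2 := C'.card_mul_index
          have h3 := Y.card_eq_card_quotient_mul_card_subgroup
          have h4 : 0 < C'.index := Nat.pos_of_ne_zero C'.index_ne_zero_of_finite
          refine Nat.eq_of_mul_eq_mul_right h4 ?_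
          rw [h1, h3, ← h2]; ring
        have e2 : ∀ C' : Subgroup (G ⧸ Y), Nat.card (DFix (C'.comap φ) D) = Nat.card (DFix C' D) := by
          intro C'
          refine Nat.card_congr
            { toFun := fun d => ⟨d.1, fun u hu => ?_⟩
              invFun := fun d => ⟨d.1, fun u hu => ?_⟩
              left_inv := fun d => rfl
              right_inv := fun d => rfl }
          · obtain ⟨g, rfl⟩ := hφ u
            exact (hDφ g d.1).symm.trans (d.2 g hu)
          · exact (hDφ u d.1).trans (d.2 (φ u) hu)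
        have e3 : (A.map φ).comap φ = A := Subgroup.comap_map_eq_self (by rw [hker]; exact hYA)
        have h1 := hAB (B'.comap φ) (hYc B') (by
          have := Subgroup.comap_mono (f := φ) hB'
          rwa [e3] at this)
        rw [e1, e2] at h1
        have h2 : Nat.card A * Nat.card (DFix A D) = Nat.card (A.map φ) * Nat.card Y * Nat.card (DFix (A.map φ) D) := by
          rw [← e1, ← e2, e3]
        rw [h2] at h1
        have h3 : 0 < Nat.card Y := Nat.card_pos
        refine Nat.le_of_mul_le_mul_right (c := Nat.card Y) ?_ h3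
        calc _ = Nat.card B' * Nat.card Y * Nat.card (DFix B' D) := by ring
          _ ≤ _ := h1
          _ = _ := by ring


theorem map_subtype_cj {N : Subgroup G} (n : N) (Q : Subgroup N) :
    (cj n Q).map N.subtype = cj (n : G) (Q.map N.subtype) := map_cj N.subtype n Q

theorem cj_self_of_mem_nz {X : Subgroup G} {g : G} (hg : g ∈ Nz X) : cj g X = X := by
  ext x
  rw [mem_cj]
  have := (Subgroup.mem_normalizer_iff.mp (Subgroup.inv_mem _ hg) x)
  simp only [inv_inv] at this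
  exact this.symm

/-- the pieces with `J(P) ≠ 1` -/
theorem pieces {p : ℕ} [Fact p.Prime] [Finite G] [Finite Ω] [Finite D] (hΩ : PSet p G Ω)
    (hD : IsPTors p D) (hS : StarLt.{u, v, w} p (Nat.card G)) (R : Set (Subgroup G)) (hRi : IsInv R)
    (hlow : IsLowerSet R) (hJ : ∀ P : Subgroup G, IsPGroup p P → JD D P ∈ R → P ∈ R) (n : ℕ) :
    Van G Ω D {P | P ∈ R ∧ IsPGroup p P ∧ JD D P ≠ ⊥} (n + 2) := by
  classical
  have hpcj : ∀ (g : G) (P : Subgroup G), IsPGroup p P → IsPGroup p (cj g P) := fun g P h => h.map _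
  have hJcj : ∀ (g : G) (P : Subgroup G), JD D P ≠ ⊥ → JD D (cj g P) ≠ ⊥ := fun g P h => by
    rw [JD_cj]; exact cj_ne_bot h
  refine van_of_filt (V := {P | P ∈ R ∧ IsPGroup p P ∧ JD D P ≠ ⊥}) ?_ ?_ (fun P => Nat.card (JD D P)) ?_ ?_ _ ?_
  · refine ⟨fun P hP Q hQ T hT => ⟨hlow hT.2 hQ.1, hQ.2.1.to_le hT.2, fun h => hP.2.2 ?_⟩⟩
    exact eq_bot_iff.2 (h ▸ JD_mono hT.1)
  · exact fun g P hP => ⟨hRi g P hP.1, hpcj g P hP.2.1, hJcj g P hP.2.2⟩
  · exact fun P _ Q _ h => Subgroup.card_le_of_le (JD_mono h)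
  · exact fun g P _ => by rw [JD_cj, card_cj]
  · intro i
    refine van_of_local hΩ (V := {P | P ∈ {P | P ∈ R ∧ IsPGroup p P ∧ JD D P ≠ ⊥} ∧ Nat.card (JD D P) = i}) ?_
      (JD D) (fun P _ => JD_le P) (fun g P _ => JD_cj g P) ?_ _ ?_
    · exact fun g P hP => ⟨⟨hRi g P hP.1.1, hpcj g P hP.1.2.1, hJcj g P hP.1.2.2⟩, by rw [JD_cj, card_cj]; exact hP.2⟩
    · exact fun P hP Q hQ h => Subgroup.eq_of_le_of_card_ge (JD_mono h) (by rw [hP.2, hQ.2])
    · rintro P ⟨⟨hPR, hPp, hPJ⟩, hPi⟩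
      generalize hX : JD D P = X at *
      have hXX : JD D X = X := by rw [← hX, JD_JD]
      have hXR : X ∈ R := hlow (hX ▸ JD_le P) hPR
      have hXp : IsPGroup p X := hPp.to_le (hX ▸ JD_le P)
      have hXN : X ≤ Nz X := Subgroup.le_normalizer
      let Y : Subgroup ↥(Nz X) := X.subgroupOf (Nz X)
      have hYmap : Y.map (Nz X).subtype = X := by
        rw [Subgroup.subgroupOf_map_subtype, inf_eq_left.2 hXN]
      have hYn : Y.Normal := Subgroup.normal_in_normalizer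
      have hYst : ∀ x : FixPt X Ω, Y ≤ stabilizer ↥(Nz X) x := by
        intro x u hu
        rw [mem_stabilizer_iff]
        exact Subtype.ext (mem_stabilizer_iff.1 (x.2 (show (u : G) ∈ X from hu)))
      refine van_fix Y hYst ?_
      have hΩ' : PSet p ↥(Nz X) (FixPt X Ω) := pset_fixPt hΩ X hXp
      have hD' : IsPTors p ↥(DFix Y D) := fun d => by
        obtain ⟨k, hk⟩ := hD d.1
        exact ⟨k, Subtype.ext hk⟩
      have hYne : Y ≠ ⊥ := by
        intro h
        apply hPJ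
        rw [← hYmap, h, Subgroup.map_bot]
      refine starY_of hΩ' hD' Y hYst (fun u hu d => Subtype.ext (d.2 u hu)) ?_ _ ?_ ?_ ?_ ?_ n
      · intro i1 i2
        refine hS _ _ _ ?_
        have h1 := Y.card_eq_card_quotient_mul_card_subgroup
        have h2 : Nat.card ↥(Nz X) ≤ Nat.card G := Subgroup.card_le_card_group _
        have h3 : 1 < Nat.card Y := (Subgroup.one_lt_card_iff_ne_bot Y).2 hYne
        have h4 : 0 < Nat.card (↥(Nz X) ⧸ Y) := Nat.card_pos
        nlinarith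
      · rintro g Q ⟨hQ1, hQ2⟩
        have e : cj (g : G) X = X := cj_self_of_mem_nz g.2
        refine ⟨?_, ?_⟩
        · rw [map_subtype_cj]
          exact ⟨⟨hRi _ _ hQ1.1.1, hpcj _ _ hQ1.1.2.1, hJcj _ _ hQ1.1.2.2⟩, by rw [JD_cj, card_cj]; exact hQ1.2⟩
        · rw [map_subtype_cj, JD_cj, hQ2, e]
      · refine ⟨?_, ?_⟩
        · rw [hYmap]
          exact ⟨⟨hXR, hXp, by rw [hXX]; exact hPJ⟩, by rw [hXX]; exact hPi⟩
        · rw [hYmap, hXX]
      · rintro P' ⟨hP1, hP2⟩ Q hYQ hQP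
        have h1 : X ≤ Q.map (Nz X).subtype := hYmap.ge.trans (Subgroup.map_mono hYQ)
        have h2 : Q.map (Nz X).subtype ≤ P'.map (Nz X).subtype := Subgroup.map_mono hQP
        have h3 : JD D (Q.map (Nz X).subtype) = X := by
          refine le_antisymm ?_ ?_
          · exact (JD_mono h2).trans hP2.le
          · exact hXX.ge.trans (JD_mono h1)
        exact ⟨⟨⟨hlow h2 hP1.1.1, hP1.1.2.1.to_le h2, by rw [h3]; exact hPJ⟩, by rw [h3]; exact hPi⟩, h3⟩
      · rintro P' hP'p hYP' ⟨hT1, hT2⟩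
        have h1 : X ≤ P'.map (Nz X).subtype := hYmap.ge.trans (Subgroup.map_mono hYP')
        have hPN : P'.map (Nz X).subtype ≤ Nz X := Subgroup.map_subtype_le _
        have h2 : JD D (P'.map (Nz X).subtype) ≤ (JDY Y ↥(DFix Y D) P').map (Nz X).subtype := by
          refine sSup_le fun A hA => ?_
          have hAN : A ≤ Nz X := hA.1.trans hPN
          have h5 : A.subgroupOf (Nz X) ≤ P' := by
            intro a ha
            obtain ⟨b, hb, hb'⟩ := hA.1 (show (a : G) ∈ A from ha)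
            have : b = a := Subtype.ext hb'
            exact this ▸ hb
          have h6 : A.subgroupOf (Nz X) ⊔ Y ≤ JDY Y ↥(DFix Y D) P' :=
            le_sSup ⟨sup_le h5 hYP', bo_boy (bo_subgroupOf hA.2 hAN) Y⟩
          have h7 := Subgroup.map_mono (f := (Nz X).subtype) (le_sup_left.trans h6)
          rwa [Subgroup.subgroupOf_map_subtype, inf_eq_left.2 hAN] at h7
        have h3 : JD D (P'.map (Nz X).subtype) = X := by
          refine le_antisymm ?_ ?_
          · exact (JD_JD _).ge.trans ((JD_mono h2).trans hT2.le)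
          · exact hXX.ge.trans (JD_mono h1)
        have h4 : IsPGroup p (P'.map (Nz X).subtype) := hP'p.map _
        exact ⟨⟨⟨hJ _ h4 (by rw [h3]; exact hXR), h4, by rw [h3]; exact hPJ⟩, by rw [h3]; exact hPi⟩, h3⟩

/-- all subgroups, `J(P) ≠ 1` -/
theorem van_univ_pieces {p : ℕ} [Fact p.Prime] [Finite G] [Finite Ω] [Finite D] (hΩ : PSet p G Ω)
    (hD : IsPTors p D) (hS : StarLt.{u, v, w} p (Nat.card G)) (n : ℕ) :
    Van G Ω D {P | JD D P ≠ ⊥} (n + 2) := by
  refine van_congr (fun k x => ?_) (pieces hΩ hD hS Set.univ (fun _ _ _ => trivial) (fun _ _ _ _ => trivial)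
    (fun _ _ _ => trivial) n)
  exact ⟨fun h => ⟨trivial, st_pgroup hΩ x, h⟩, fun h => h.2.2⟩

theorem isInv_JD : IsInv {P : Subgroup G | JD D P ≠ ⊥} := fun g P h => by
  show JD D (cj g P) ≠ ⊥
  rw [JD_cj]; exact cj_ne_bot h

theorem isUpper_JD : IsUpperSet {P : Subgroup G | JD D P ≠ ⊥} := fun _ _ h hP h1 =>
  hP (eq_bot_iff.2 (h1 ▸ JD_mono h))

/-- `J(P) = 1` -/
theorem van_R_bot {p : ℕ} [Fact p.Prime] [Finite G] [Finite Ω] [Finite D] (hΩ : PSet p G Ω)
    (hD : IsPTors p D) (hS : StarLt.{u, v, w} p (Nat.card G)) (n : ℕ) :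
    Van G Ω D {P | JD D P = ⊥} (n + 2) := by
  rcases eq_or_ne p 2 with rfl | hp2
  · have h1 : Van G Ω D (Set.univ : Set (Subgroup G)) (n + 2) := van_all hΩ hD (fun _ _ => trivial) (n + 1)
    have h2 : Van G Ω D (Set.univ ∩ {P : Subgroup G | JD D P ≠ ⊥}) (n + 1) := by
      rw [Set.univ_inter]
      cases n with
      | zero =>
        have h := claimT (G := G) (Ω := Ω) (D := D) hΩ hD
        have e : {P : Subgroup G | JD D P ≠ ⊥} = {P | ∃ A : Subgroup G, A ≤ P ∧ A ≠ ⊥ ∧ BO D A} := by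
          ext P; exact JD_ne_bot_iff
        rw [e]; exact h
      | succ m => exact van_univ_pieces hΩ hD hS m
    have h3 := van_two2 Set.ordConnected_univ (fun _ _ _ => trivial) isUpper_JD isInv_JD h1 h2
    refine van_congr (fun k x => ?_) h3
    simp
  · let 𝒜 : Set (Subgroup G) := {A | IsPGroup p A ∧ A ≠ ⊥ ∧ BO D A ∧ NGood p D A}
    have hi : IsInv 𝒜 := by
      rintro g A ⟨h1, h2, h3, h4⟩
      refine ⟨h1.map _, cj_ne_bot h2, bo_cj g h3, ?_⟩
      intro M hM hMA z hz hpz a ha haM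
      have e1 : cj g⁻¹ M ≤ A := by
        have := cj_mono g⁻¹ hM
        rwa [cj_inv_cj] at this
      have e2 : (cj g⁻¹ M).relIndex A = p := by
        have h5 : (cj g⁻¹ M).relIndex (cj g⁻¹ (cj g A)) = M.relIndex (cj g A) :=
          Subgroup.relIndex_map_map_of_injective _ _ (MulAut.conj g⁻¹).injective
        rw [cj_inv_cj] at h5
        rw [h5, hMA]
      have e3 := h4 _ e1 e2 (g⁻¹ • z) (fun m hm => by
        rw [mem_cj, inv_inv] at hm
        have := hz _ hm
        calc m • g⁻¹ • z = g⁻¹ • ((g * m * g⁻¹) • z) := by rw [smul_smul, smul_smul]; congr 1; group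
          _ = g⁻¹ • z := by rw [this]) (fun b hb => by
        have h6 : g * b * g⁻¹ ∈ cj g A := by rw [mem_cj]; simpa [mul_assoc] using hb
        have := hpz _ h6
        calc b • (p • g⁻¹ • z) = g⁻¹ • ((g * b * g⁻¹) • (p • z)) := by
              rw [smul_comm p g⁻¹ z, smul_smul, smul_smul]; congr 1; group
          _ = g⁻¹ • (p • z) := by rw [this]
          _ = p • g⁻¹ • z := by rw [smul_comm p g⁻¹ z]) (g⁻¹ * a * g) (mem_cj.1 ha) (fun h7 => haM (by
        rw [mem_cj, inv_inv] at h7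
        simpa [mul_assoc] using h7))
      have e4 := congrArg (fun t => g • t) e3
      rw [Finset.smul_sum, smul_comm g p, smul_inv_smul] at e4
      rw [← e4]
      refine Finset.sum_congr rfl fun i _ => ?_
      rw [smul_smul, smul_smul]
      congr 1
      have : (g⁻¹ * a * g) ^ i = g⁻¹ * a ^ i * g := by
        have := conj_pow (a := g⁻¹) (b := a) (i := i)
        simpa using this
      rw [this]; group
    have h1 := van_R0 (G := G) (Ω := Ω) (D := D) hΩ hD 𝒜 hi (fun A hA => hA.1) (fun A hA => hA.2.2.2) (n + 1)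
    refine van_congr (fun k x => ?_) h1
    have hxp := st_pgroup hΩ x
    constructor
    · intro h A hA hAx
      exact hA.2.1 (eq_bot_iff.2 ((show JD D (st G x) = ⊥ from h) ▸ le_JD hA.2.2.1 hAx))
    · intro h
      by_contra h2
      obtain ⟨A, hA1, hA2, hA3⟩ := JD_ne_bot_iff.1 (show JD D (st G x) ≠ ⊥ from h2)
      obtain ⟨B, hB1, hB2, hB3, hB4, -⟩ := exists_good_of_BO hp2 hD (hxp.to_le hA1) hA3 hA2
      exact h B ⟨hxp.to_le (hB1.trans hA1), hB2, hB3, hB4⟩ (hB1.trans hA1)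

theorem star_step {p : ℕ} [Fact p.Prime] [Finite G] [Finite Ω] [Finite D]
    (hS : StarLt.{u, v, w} p (Nat.card G)) : StarFor p G Ω D := by
  intro hΩ hD R hRi hbot hlow hJ n
  have hV : ({P | P ∈ R ∧ IsPGroup p P} : Set (Subgroup G)).OrdConnected :=
    ⟨fun _ _ _ hQ _ hT => ⟨hlow hT.2 hQ.1, hQ.2.to_le hT.2⟩⟩
  have h1 : Van G Ω D ({P | P ∈ R ∧ IsPGroup p P} \ {P : Subgroup G | JD D P ≠ ⊥}) (n + 2) := by
    refine van_congr (fun k x => ?_) (van_R_bot hΩ hD hS n)
    constructor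
    · rintro ⟨-, h⟩
      by_contra h2
      exact h h2
    · intro h
      exact ⟨⟨hJ _ (st_pgroup hΩ x) (by rw [show JD D (st G x) = ⊥ from h]; exact hbot), st_pgroup hΩ x⟩,
        fun h2 => h2 h⟩
  have h2 : Van G Ω D ({P | P ∈ R ∧ IsPGroup p P} ∩ {P : Subgroup G | JD D P ≠ ⊥}) (n + 2) := by
    refine van_congr (fun k x => ?_) (pieces hΩ hD hS R hRi hlow hJ n)
    exact ⟨fun h => ⟨h.1.1, h.1.2, h.2⟩, fun h => ⟨⟨h.1, h.2.1⟩, h.2.2⟩⟩
  have h3 := van_two1 hV (fun g P hP => ⟨hRi g P hP.1, hP.2.map _⟩) isUpper_JD isInv_JD h1 h2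
  refine van_congr (fun k x => ?_) h3
  exact ⟨fun h => ⟨h, st_pgroup hΩ x⟩, fun h => h.1⟩

end

theorem starLt (p : ℕ) [Fact p.Prime] (m : ℕ) : StarLt.{u, v, w} p m := by
  induction m with
  | zero => intro G _ _ Ω _ _ D _ _ _ h; exact absurd h (Nat.not_lt_zero _)
  | succ m ih =>
    intro G _ _ Ω _ _ D _ _ _ h
    refine star_step (fun H _ _ Ω' _ _ D' _ _ _ h' => ?_)
    exact ih H Ω' D' (by omega)

section

variable {G : Type u} [Group G] {Ω : Type v} [MulAction G Ω] {D : Type w} [AddCommGroup D]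
  [DistribMulAction G D]

/-- **D3: the local theorem** -/
theorem star {p : ℕ} [Fact p.Prime] [Finite G] [Finite Ω] [Finite D] (hΩ : PSet p G Ω) (hD : IsPTors p D)
    (R : Set (Subgroup G)) (hRi : IsInv R) (hbot : ⊥ ∈ R) (hlow : IsLowerSet R)
    (hJ : ∀ P : Subgroup G, IsPGroup p P → JD D P ∈ R → P ∈ R) (n : ℕ) : Van G Ω D R (n + 2) :=
  starLt p (Nat.card G + 1) G Ω D (Nat.lt_succ_self _) hΩ hD R hRi hbot hlow hJ n

end

theorem starY {G : Type u} [Group G] {Ω : Type v} [MulAction G Ω] {D : Type w} [AddCommGroup D]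
    [DistribMulAction G D] {p : ℕ} [Fact p.Prime] [Finite G] [Finite Ω] [Finite D] (hΩ : PSet p G Ω)
    (hD : IsPTors p D) (Y : Subgroup G) [Y.Normal] (hY : ∀ x : Ω, Y ≤ stabilizer G x)
    (hYD : ∀ u ∈ Y, ∀ d : D, u • d = d) (R : Set (Subgroup G)) (hRi : IsInv R) (hYR : Y ∈ R)
    (hlow : ∀ P ∈ R, ∀ Q : Subgroup G, Y ≤ Q → Q ≤ P → Q ∈ R)
    (hJ : ∀ P : Subgroup G, IsPGroup p P → Y ≤ P → JDY Y D P ∈ R → P ∈ R) (n : ℕ) :
    Van G Ω D R (n + 2) :=
  starY_of hΩ hD Y hY hYD (fun _ _ => starLt p (Nat.card (G ⧸ Y) + 1) _ _ _ (Nat.lt_succ_self _)) R hRi hYR hlow hJ n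

end Cfsg.Agent.H291.Lim
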